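import Mathlib
import Groth.Agent.NApproxLib.Model
import Groth.Agent.QCoh.SpecFT
import Groth.Agent.QCoh.Pullback
import Groth.Agent.QCoh.FlatOver
import Groth.Agent.S2265
import Groth.Agent.S2394
import Groth.Agent.Algz7.Tilde
import Groth.Prelude.Def_MoreMor

/-!
# Noetherian models of modules on affine schemes
-/

set_option autoImplicit false
set_option linter.style.haveILetI false
set_option backward.isDefEq.respectTransparency false
set_option backward.isDefEq.respectTransparency.types false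

universe u

open AlgebraicGeometry CategoryTheory Limits TensorProduct

namespace Groth.Agent.NApproxLib

/-- A quasi-coherent module on an affine scheme comes from the module of its global sections. -/
theorem exists_iso_tilde {X : Scheme.{u}} [IsAffine X] (F : X.Modules) (hF : Coh.IsQCoh F) :
    ∃ (iX : X ≅ Spec Γ(X, ⊤)) (M : ModuleCat.{u} Γ(X, ⊤)), iX = X.isoSpec ∧ Nonempty (Γ(F, ⊤) ≃ₗ[Γ(X, ⊤)] M) ∧
      Nonempty ((Scheme.Modules.pullback iX.hom).obj (tilde M) ≅ F) := by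
  let hT := isAffineOpen_top X
  let N := F.restrict hT.fromSpec
  obtain ⟨M, ⟨e⟩⟩ := QCoh.isQCoh_spec_iff.1 (QCoh.isQCoh_restrict hT.fromSpec hF)
  let e' : moduleSpecΓFunctor.obj (tilde M) ≅ moduleSpecΓFunctor.obj N := moduleSpecΓFunctor.mapIso e
  let t : M ≃ₗ[Γ(X, ⊤)] moduleSpecΓFunctor.obj N :=
    ((tilde.toTildeΓNatIso.app M) ≪≫ e').toLinearEquiv
  refine ⟨X.isoSpec, M, rfl, ⟨(QCoh.chartEquiv hT F).trans t.symm⟩, ⟨?_⟩⟩
  have h : X.isoSpec.hom ≫ hT.fromSpec = 𝟙 X := by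
    rw [IsAffineOpen.fromSpec_top, Iso.hom_inv_id]
  exact (Scheme.Modules.pullback X.isoSpec.hom).mapIso
      (e ≪≫ (Scheme.Modules.restrictFunctorIsoPullback hT.fromSpec).app F) ≪≫
    (Scheme.Modules.pullbackComp X.isoSpec.hom hT.fromSpec).app F ≪≫
    (Scheme.Modules.pullbackCongr h).app F ≪≫ (Scheme.Modules.pullbackId X).app F

/-- The scheme attached to an algebraic model. -/
theorem exists_scheme_model {X S : Scheme.{u}} (f : X ⟶ S) [IsAffine X] [IsAffine S] (F : X.Modules)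
    (iX : X ≅ Spec Γ(X, ⊤)) (hiX : iX = X.isoSpec) (M : ModuleCat.{u} Γ(X, ⊤))
    (hM : Nonempty ((Scheme.Modules.pullback iX.hom).obj (tilde M) ≅ F))
    (R₀ : Type u) [CommRing R₀] [Algebra R₀ Γ(S, ⊤)] (S₀ : Type u) [CommRing S₀]
    [Algebra R₀ S₀] [Algebra S₀ Γ(X, ⊤)] [Algebra R₀ Γ(X, ⊤)] [Algebra Γ(S, ⊤) Γ(X, ⊤)]
    (halg : algebraMap Γ(S, ⊤) Γ(X, ⊤) = f.appTop.hom) [IsScalarTower R₀ Γ(S, ⊤) Γ(X, ⊤)]
    [IsScalarTower R₀ S₀ Γ(X, ⊤)] (M₀ : Type u) [AddCommGroup M₀] [Module S₀ M₀] [Module R₀ M₀]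
    [IsScalarTower R₀ S₀ M₀] [Module S₀ M] [IsScalarTower S₀ Γ(X, ⊤) M] (φ : M₀ →ₗ[S₀] M)
    (hR₀ : Algebra.FiniteType ℤ R₀) (hS₀ : Algebra.FiniteType R₀ S₀) (hM₀ : Module.Finite S₀ M₀)
    (hpush : Algebra.IsPushout R₀ Γ(S, ⊤) S₀ Γ(X, ⊤)) (hbc : IsBaseChange Γ(X, ⊤) φ) :
    ∃ (f₀ : Spec (CommRingCat.of S₀) ⟶ Spec (CommRingCat.of R₀)) (g : S ⟶ Spec (CommRingCat.of R₀))
      (g' : X ⟶ Spec (CommRingCat.of S₀)), IsPullback g' f f₀ g ∧
      Algebra.FiniteType ℤ Γ(Spec (CommRingCat.of R₀), ⊤) ∧ LocallyOfFiniteType f₀ ∧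
      ∃ F₀ : (Spec (CommRingCat.of S₀)).Modules, Coh.IsCoh F₀ ∧
        (Module.Flat R₀ M₀ → FlatMod.IsFlatOver f₀ F₀) ∧
        (f₀ = Spec.map (CommRingCat.ofHom (algebraMap R₀ S₀)) ∧ F₀ = tilde (ModuleCat.of S₀ M₀)) ∧
        Nonempty ((Scheme.Modules.pullback g').obj F₀ ≅ F) := by
  haveI := hS₀
  haveI := hM₀
  haveI := hR₀
  let p : Spec Γ(X, ⊤) ⟶ Spec (CommRingCat.of S₀) := Spec.map (CommRingCat.ofHom (algebraMap S₀ Γ(X, ⊤)))
  refine ⟨Spec.map (CommRingCat.ofHom (algebraMap R₀ S₀)),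
    S.isoSpec.hom ≫ Spec.map (CommRingCat.ofHom (algebraMap R₀ Γ(S, ⊤))), iX.hom ≫ p, ?_, ?_, ?_,
    tilde (ModuleCat.of S₀ M₀), Algz7.isCoh_tilde (ModuleCat.of S₀ M₀), fun h => ?_, ⟨rfl, rfl⟩, ?_⟩
  · have hsq := (isPullback_SpecMap_of_isPushout _ _ _ _
      (CommRingCat.isPushout_of_isPushout R₀ Γ(S, ⊤) S₀ Γ(X, ⊤))).flip
    refine hsq.of_iso iX.symm (Iso.refl _) S.isoSpec.symm (Iso.refl _) ?_ ?_ (by simp) (by simp)
    · simp [p]
    · rw [← cancel_epi iX.hom]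
      simp only [Iso.symm_hom, Iso.hom_inv_id_assoc]
      rw [← cancel_mono S.isoSpec.hom]
      simp only [Category.assoc, Iso.inv_hom_id, Category.comp_id]
      subst hiX
      rw [← Scheme.isoSpec_hom_naturality, halg]
      rfl
  · exact Algebra.FiniteType.equiv hR₀
      (Scheme.ΓSpecIso (CommRingCat.of R₀)).symm.commRingCatIsoToRingEquiv.toIntAlgEquiv
  · rw [HasRingHomProperty.Spec_iff (P := @LocallyOfFiniteType), CommRingCat.hom_ofHom, RingHom.finiteType_algebraMap]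
    infer_instance
  · exact (S2394.result R₀ S₀ M₀).2 h
  · obtain ⟨eM⟩ := hM
    obtain ⟨e₁⟩ := S2265.result S₀ Γ(X, ⊤) M₀
    exact ⟨((Scheme.Modules.pullbackComp iX.hom p).app _).symm ≪≫
      (Scheme.Modules.pullback iX.hom).mapIso (e₁ ≪≫ (tilde.functor _).mapIso hbc.equiv.toModuleIso) ≪≫ eM⟩

end Groth.Agent.NApproxLib
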